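import Groth.Agent.Lib.PMor16.CentralTorus
import Groth.Agent.Lib.PMor16.UnipTorus
import Groth.Agent.Lib.SubCartan21.Main
import Groth.Agent.Lib.CentMT21.Preimage
import Groth.Agent.Lib.AttrBorel21.MaxTori
import Groth.Agent.S3917

/-!
# Central tori of groups between a subgroup of type (R) and `G` lie in the radical of the subgroup
-/

set_option autoImplicit false
set_option linter.style.haveILetI false
set_option backward.isDefEq.respectTransparency false
set_option backward.isDefEq.respectTransparency.types false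
set_option maxSynthPendingDepth 3

universe u

open CategoryTheory CategoryTheory.Limits MonoidalCategory CartesianMonoidalCategory MonObj GrpObj AlgebraicGeometry

namespace Groth.Agent.RadH19

variable {S : Scheme.{u}}

/-- A central torus of a smooth `W` with `H ⊆ W ⊆ G`, `H` of type (R) in the reductive `G`, lies in the
maximal torus of the centre of `H`. -/
theorem exists_factor {G H W ZH R T : Over S} [GrpObj G] [GrpObj H] [GrpObj W] [GrpObj ZH] [GrpObj R] [GrpObj T]
    (hG : Red.IsReductive G) (i : H ⟶ G) (hi : RedSub.IsTypeR i) (hH : Red.IsReductive H)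
    (jz : ZH ⟶ H) (hZH : Red.IsCentre jz) (r : R ⟶ ZH) (hR : Red.IsMaximalTorus r)
    (w : W ⟶ G) [IsMonHom w] [Mono w] [Smooth W.hom] [QuasiCompact W.hom] [QuasiSeparated W.hom]
    (k : H ⟶ W) (hk : k ≫ w = i)
    (hT : Red.IsTorus T) (m : T ⟶ W) [IsMonHom m]
    (hcen : ∀ (X : Over S) (x : X ⟶ T) (g : X ⟶ W), (x ≫ m) * g = g * (x ≫ m)) :
    ∃ l : T ⟶ R, l ≫ r ≫ jz ≫ i = m ≫ w := by
  obtain ⟨⟨hiM, hiI⟩, -, -, hiC, hiT⟩ := hi
  haveI := hiM
  haveI := hiI
  haveI : Mono i := Over.mono_of_mono_left i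
  haveI : IsMonHom k := TorsorSch25.isMonHom_of_points k fun X a b => (cancel_mono w).1 (by
    rw [Category.assoc, hk, MonObj.mul_comp, MonObj.mul_comp, Category.assoc, Category.assoc, hk])
  haveI : Mono k := by
    haveI : Mono (k ≫ w) := by rw [hk]; infer_instance
    exact mono_of_mono k w
  haveI := hH.1
  haveI := hH.2.1
  haveI := hG.1
  haveI := hG.2.1
  haveI := hZH.1
  haveI := hZH.2.1
  obtain ⟨f, hf⟩ := SubCartan21.exists_lift_central k (CentMT21.connectedSpace_geomFibre H hiC) (fun s => by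
    obtain ⟨C, _, t, htm, ht⟩ := hiT s
    haveI := htm
    set ks := (Over.pullback (Red.geomPt s)).map k
    set ws := (Over.pullback (Red.geomPt s)).map w
    haveI : IsMonHom ks := MTRigid29.isMonHom_map k _
    haveI : IsMonHom ws := MTRigid29.isMonHom_map w _
    haveI : Mono ws := Functor.map_mono _ _
    rw [← hk, Functor.map_comp, ← Category.assoc] at ht
    haveI := ht.2.1
    haveI : Mono (t ≫ ks) := mono_of_mono (t ≫ ks) ws
    have hCt := ht.2.2.1
    have hc := (S3917.result _ _ (PMor16.isReductive_geomPt hG s) C ((t ≫ ks) ≫ ws) hCt).1 ht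
    haveI : LocallyOfFiniteType (Red.geomFibre s W).hom :=
      inferInstanceAs (LocallyOfFiniteType (Limits.pullback.snd W.hom (Red.geomPt s)))
    haveI : QuasiCompact (Red.geomFibre s W).hom :=
      inferInstanceAs (QuasiCompact (Limits.pullback.snd W.hom (Red.geomPt s)))
    haveI : Smooth (Red.geomFibre s W).hom :=
      inferInstanceAs (Smooth (Limits.pullback.snd W.hom (Red.geomPt s)))
    obtain ⟨-, hm, -, hmax⟩ := TorPts21.isMaxTorus_of_isMaximalTorus ht
    have h'' : Red.IsMaximalTorus (t ≫ ks) := AttrBorel21.isMaximalTorus_of_isMaxTorus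
      ⟨inferInstance, inferInstance, hCt, fun T' _ j _ _ g hT' hg =>
        hmax T' (j ≫ ws) g hT' (by rw [← Category.assoc, hg])⟩
    refine ⟨C, inferInstance, t, inferInstance, inferInstance, C, inferInstance, t ≫ ks, h'',
      inferInstance, inferInstance, fun X g => ⟨?_, fun hg => ?_⟩⟩
    · rintro ⟨a, rfl⟩ X' x h
      have h1 := (hc.2.2 X' ((x ≫ a) ≫ (t ≫ ks) ≫ ws)).1 ⟨x ≫ a, rfl⟩ X' (𝟙 X') h
      refine (cancel_mono ws).1 ?_
      simpa only [MonObj.mul_comp, Category.id_comp, Category.assoc] using h1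
    · obtain ⟨a, ha⟩ := (hc.2.2 X (g ≫ ws)).2 fun X' x h => by
        have h1 := congrArg (· ≫ ws) (hg X' x h)
        simpa only [MonObj.mul_comp, Category.assoc] using h1
      exact ⟨a, (cancel_mono ws).1 (by simpa only [Category.assoc] using ha)⟩) m hcen
  haveI : IsMonHom f := TorsorSch25.isMonHom_of_points f fun X a b => (cancel_mono k).1 (by
    rw [Category.assoc, hf, MonObj.mul_comp, MonObj.mul_comp, Category.assoc, Category.assoc, hf])
  obtain ⟨t₁, ht₁⟩ := (hZH.2.2 T f).2 fun X x g => (cancel_mono k).1 (by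
    rw [Category.comp_id, MonObj.mul_comp, MonObj.mul_comp, Category.assoc, hf]
    exact hcen X x (g ≫ k))
  haveI : IsMonHom t₁ := TorsorSch25.isMonHom_of_points t₁ fun X a b => (cancel_mono jz).1 (by
    rw [Category.assoc, ht₁, MonObj.mul_comp, MonObj.mul_comp, Category.assoc, Category.assoc, ht₁])
  obtain ⟨l, hl⟩ := PMor16.factor_maximalTorus jz hZH r hR hT t₁
  exact ⟨l, by rw [← Category.assoc, hl, ← Category.assoc, ht₁, ← hk, ← Category.assoc, hf]⟩

end Groth.Agent.RadH19
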